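import Cfsg.Agent.Helper98.J2Check6
import Cfsg.Agent.Helper98.J2Simple

/-!
# The orbit of 100 subsets of the 315 points of the Hall–Janko group

Orbit theory over the kernel checks of `Cfsg.Agent.Helper98.J2Check6`: the 100 subsets `Dset k` form
one orbit of `G315`, the stabiliser of `Dset 0` has order 6048 and its orbits on the other 99 subsets
have 36 and 63 members.
-/

set_option autoImplicit false

open Pointwise

namespace Cfsg.Agent.Helper7.J2Sub

open Cfsg.Agent.Helper7.J2 Cfsg.Agent.Helper98.J2 MulAction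

/-- the `k`-th subset of the 315 points -/
def Dset (k : ℕ) : Set (Fin 315) := {p | inD k p.val = true}

theorem mem_Dset {k : ℕ} {p : Fin 315} : p ∈ Dset k ↔ inD k p.val = true := Iff.rfl

theorem smul_apply (g : M) (p : Fin 315) : g • p = (g : P315) p := rfl

theorem sM_apply (j : Fin 4) (p : Fin 315) : (((sM j : M) : P315) p : ℕ) = look (sCode.getD j 0) p :=
  isCode_g315 j p

theorem sM_mul_self (j : Fin 4) : sM j * sM j = 1 := by
  apply Subtype.ext
  apply Equiv.ext
  intro p
  show g315 j (g315 j p) = p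
  exact g315fun_invol j p

/-! ### the kernel checks, unfolded -/

theorem act_spec {j k : ℕ} (hj : j < 4) (hk : k < 100) :
    actF j k < 100 ∧ actF j (actF j k) = k ∧
      ∀ p < 315, inD k p = true → inD (actF j k) (look (sCode.getD j 0) p) = true := by
  have h := chkAct_ok
  simp only [chkAct, List.all_eq_true, List.mem_range, withNat_eq, Bool.and_eq_true,
    decide_eq_true_eq, beq_iff_eq, Bool.or_eq_true, Bool.not_eq_true'] at h
  obtain ⟨⟨h1, h2⟩, h3⟩ := h j hj k hk
  refine ⟨h1, h2, fun p hp hin => ?_⟩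
  rcases h3 p hp with h4 | h4
  · rw [hin] at h4; cases h4
  · exact h4

theorem tree_spec {k : ℕ} (hk : k < 100) (h0 : k ≠ 0) :
    parT.getD k 0 < k ∧ pgenT.getD k 0 < 4 ∧ actF (pgenT.getD k 0) (parT.getD k 0) = k := by
  have h := chkTree_ok
  simp only [chkTree, List.all_eq_true, List.mem_range, Bool.or_eq_true, beq_iff_eq,
    Bool.and_eq_true, decide_eq_true_eq] at h
  rcases h k hk with h1 | ⟨⟨h1, h2⟩, h3⟩
  · exact absurd h1 h0
  · exact ⟨h1, h2, h3⟩

theorem noIncl_spec {k k' : ℕ} (hk : k < 100) (hk' : k' < 100) (hne : k ≠ k') :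
    ∃ p < 315, inD k p = true ∧ inD k' p = false := by
  have h := chkNoIncl_ok
  simp only [chkNoIncl, List.all_eq_true, List.mem_range, Bool.or_eq_true, beq_iff_eq,
    List.any_eq_true, Bool.and_eq_true, Bool.not_eq_true'] at h
  rcases h k hk k' hk' with h1 | ⟨p, hp, h2, h3⟩
  · exact absurd h1 hne
  · exact ⟨p, hp, h2, h3⟩

theorem rel_spec : (∀ j < 4, ∀ k < 100, ∀ k' < 100, relF (actF j k) (actF j k') = relF k k') ∧
    ((List.range 100).filter fun k => relF 0 k == 1).length = 36 ∧
    ((List.range 100).filter fun k => relF 0 k == 2).length = 63 ∧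
    relF 0 kOne = 1 ∧ relF 0 kTwo = 2 ∧ kOne < 100 ∧ kTwo < 100 := by
  have h := chkRel_ok
  simp only [chkRel, Bool.and_eq_true, List.all_eq_true, List.mem_range, beq_iff_eq,
    decide_eq_true_eq] at h
  obtain ⟨⟨⟨⟨⟨⟨h1, h2⟩, h3⟩, h4⟩, h5⟩, h6⟩, h7⟩ := h
  exact ⟨h1, h2, h3, h4, h5, h6, h7⟩

theorem cert_spec {k : ℕ} (hk : k < 100) (hr : relF 0 k ≠ 0) :
    certT.getD k 0 < 604800 ∧ ∀ p < 315,
      (inD 0 p = true → inD 0 (evT (certT.getD k 0) p) = true) ∧
      (inD (if relF 0 k = 1 then kOne else kTwo) p = true →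
        inD k (evT (certT.getD k 0) p) = true) := by
  have h := chkCert_ok
  simp only [chkCert, List.all_eq_true, List.mem_range, Bool.or_eq_true, beq_iff_eq, withNat_eq,
    Bool.and_eq_true, decide_eq_true_eq, Bool.not_eq_true'] at h
  rcases h k hk with h1 | ⟨h1, h2⟩
  · exact absurd h1 hr
  · refine ⟨h1, fun p hp => ⟨fun hin => ?_, fun hin => ?_⟩⟩
    · rcases (h2 p hp).1 with h3 | h3
      · rw [hin] at h3; cases h3
      · exact h3
    · rcases (h2 p hp).2 with h3 | h3
      · rw [hin] at h3; cases h3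
      · exact h3

/-! ### the action on the subsets -/

theorem Dset_sub {k k' : ℕ} (hk : k < 100) (hk' : k' < 100) (h : Dset k ⊆ Dset k') : k = k' := by
  by_contra hne
  obtain ⟨p, hp, h1, h2⟩ := noIncl_spec hk hk' hne
  have : (⟨p, hp⟩ : Fin 315) ∈ Dset k' := h (show inD k p = true from h1)
  rw [mem_Dset] at this
  rw [h2] at this
  cases this

theorem Dset_inj {k k' : ℕ} (hk : k < 100) (hk' : k' < 100) (h : Dset k = Dset k') : k = k' :=
  Dset_sub hk hk' h.subset

theorem sM_smul_sub {j : Fin 4} {k : ℕ} (hk : k < 100) : sM j • Dset k ⊆ Dset (actF j.val k) := by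
  rintro _ ⟨p, hp, rfl⟩
  rw [mem_Dset] at hp ⊢
  show inD (actF j.val k) (((sM j : M) : P315) p : ℕ) = true
  rw [sM_apply]
  exact (act_spec j.isLt hk).2.2 p.val p.isLt hp

theorem sM_smul (j : Fin 4) {k : ℕ} (hk : k < 100) : sM j • Dset k = Dset (actF j.val k) := by
  apply Set.Subset.antisymm (sM_smul_sub hk)
  obtain ⟨h1, h2, -⟩ := act_spec j.isLt hk
  have h3 := sM_smul_sub (j := j) h1
  rw [h2] at h3
  -- apply `sM j` to both sides
  have h4 : sM j • (sM j • Dset (actF j.val k)) ⊆ sM j • Dset k := Set.smul_set_mono h3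
  rwa [smul_smul, sM_mul_self, one_smul] at h4

/-- every element of the group permutes the 100 subsets -/
theorem exists_smul_eq (g : M) : ∀ k < 100, ∃ k' < 100, g • Dset k = Dset k' := by
  have hg : g ∈ Subgroup.closure (Set.range sM) := by rw [closure_sM]; trivial
  revert hg
  refine closure_left_inductionM (Set.range sM)
    (fun g => ∀ k < 100, ∃ k' < 100, g • Dset k = Dset k') ?_ ?_ g
  · intro k hk
    exact ⟨k, hk, one_smul _ _⟩
  · rintro _ ⟨j, rfl⟩ y hy k hk
    obtain ⟨k', hk', e⟩ := hy k hk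
    refine ⟨actF j.val k', (act_spec j.isLt hk').1, ?_⟩
    rw [mul_smul, e, sM_smul j hk']

/-- if an element maps a subset into a subset, it maps it onto it -/
theorem smul_eq_of_sub {g : M} {k k' : ℕ} (hk : k < 100) (hk' : k' < 100)
    (h : g • Dset k ⊆ Dset k') : g • Dset k = Dset k' := by
  obtain ⟨k'', hk'', e⟩ := exists_smul_eq g k hk
  rw [e] at h ⊢
  rw [Dset_sub hk'' hk' h]

/-- every subset is an image of the first one -/
theorem exists_smul_zero : ∀ k < 100, ∃ g : M, g • Dset 0 = Dset k := by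
  intro k
  induction k using Nat.strong_induction_on with
  | _ k ih =>
    intro hk
    by_cases h0 : k = 0
    · subst h0
      exact ⟨1, one_smul _ _⟩
    · obtain ⟨h1, h2, h3⟩ := tree_spec hk h0
      obtain ⟨g, hg⟩ := ih _ h1 (by omega)
      refine ⟨sM ⟨pgenT.getD k 0, h2⟩ * g, ?_⟩
      rw [mul_smul, hg, sM_smul _ (by omega)]
      show Dset (actF (pgenT.getD k 0) (parT.getD k 0)) = Dset k
      rw [h3]

theorem orbit_eq : orbit M (Dset 0) = Dset '' (Finset.range 100 : Set ℕ) := by
  ext S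
  constructor
  · rintro ⟨g, rfl⟩
    obtain ⟨k, hk, e⟩ := exists_smul_eq g 0 (by norm_num)
    exact ⟨k, by simpa using hk, e.symm⟩
  · rintro ⟨k, hk, rfl⟩
    have hk' : k < 100 := by simpa using hk
    obtain ⟨g, hg⟩ := exists_smul_zero k hk'
    exact ⟨g, hg⟩

theorem Dset_injOn (s : Finset ℕ) (hs : ∀ k ∈ s, k < 100) : Set.InjOn Dset (s : Set ℕ) := by
  intro k hk k' hk' e
  exact Dset_inj (hs k (by simpa using hk)) (hs k' (by simpa using hk')) e

/-- (a) the orbit of the first subset has 100 members -/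
theorem orbit_Dset : (orbit M (Dset 0)).ncard = 100 := by
  rw [orbit_eq, Set.ncard_image_of_injOn (Dset_injOn _ (by intro k hk; simpa using hk)),
    Set.ncard_coe_finset, Finset.card_range]

/-- (d) the order of the stabiliser -/
theorem card_stab : Nat.card ↥(stabilizer M (Dset 0)) = 6048 := by
  have h1 : (stabilizer M (Dset 0)).index = 100 := by
    rw [index_stabilizer, orbit_Dset]
  have h2 := Subgroup.card_mul_index (stabilizer M (Dset 0))
  rw [h1, card_G315] at h2
  omega

/-- (e) an element mapping the first subset into itself stabilises it -/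
theorem mem_stab_of_maps {g : M}
    (h : ∀ p : Fin 315, inD 0 p.val = true → inD 0 ((g : P315) p).val = true) :
    g ∈ stabilizer M (Dset 0) := by
  rw [mem_stabilizer_iff]
  apply smul_eq_of_sub (by norm_num) (by norm_num)
  rintro _ ⟨p, hp, rfl⟩
  exact h p hp

/-- (f) the converse -/
theorem maps_of_mem_stab {g : M} (hg : g ∈ stabilizer M (Dset 0)) (p : Fin 315)
    (hp : inD 0 p.val = true) : inD 0 ((g : P315) p).val = true := by
  rw [mem_stabilizer_iff] at hg
  have : g • p ∈ g • Dset 0 := Set.smul_mem_smul_set hp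
  rw [hg] at this
  exact this

/-! ### the relation is invariant -/

theorem rel_invariant (g : M) : ∀ k < 100, ∀ k' < 100, ∀ k2 < 100, ∀ k2' < 100,
    g • Dset k = Dset k2 → g • Dset k' = Dset k2' → relF k2 k2' = relF k k' := by
  have hg : g ∈ Subgroup.closure (Set.range sM) := by rw [closure_sM]; trivial
  revert hg
  refine closure_left_inductionM (Set.range sM)
    (fun g => ∀ k < 100, ∀ k' < 100, ∀ k2 < 100, ∀ k2' < 100,
      g • Dset k = Dset k2 → g • Dset k' = Dset k2' → relF k2 k2' = relF k k') ?_ ?_ g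
  · intro k hk k' hk' k2 hk2 k2' hk2' e e'
    rw [one_smul] at e e'
    rw [Dset_inj hk hk2 e, Dset_inj hk' hk2' e']
  · rintro _ ⟨j, rfl⟩ y hy k hk k' hk' k2 hk2 k2' hk2' e e'
    obtain ⟨m, hm, em⟩ := exists_smul_eq y k hk
    obtain ⟨m', hm', em'⟩ := exists_smul_eq y k' hk'
    rw [mul_smul, em, sM_smul j hm] at e
    rw [mul_smul, em', sM_smul j hm'] at e'
    have e2 := Dset_inj (act_spec j.isLt hm).1 hk2 e
    have e2' := Dset_inj (act_spec j.isLt hm').1 hk2' e'
    rw [← e2, ← e2', rel_spec.1 j.val j.isLt m hm m' hm']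
    exact hy k hk k' hk' m hm m' hm' em em'

/-- the value of an element given by its index -/
theorem elM_apply {t : ℕ} (ht : t < 604800) (p : Fin 315) :
    ((((elM t : M) : P315) p : Fin 315) : ℕ) = evT t p.val := by
  rw [elM_coe ht, ← triP_prod, evalL_spec (triP_code ht)]
  rfl

/-- the orbit of the stabiliser of the first subset on the subsets in relation `c` with it -/
theorem stab_orbit_eq {c ks : ℕ} (hc : c ≠ 0) (hks : ks < 100) (hrel : relF 0 ks = c)
    (hsel : ∀ k, relF 0 k = c → (if relF 0 k = 1 then kOne else kTwo) = ks) :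
    orbit ↥(stabilizer M (Dset 0)) (Dset ks) =
      Dset '' (((List.range 100).filter fun k => relF 0 k == c).toFinset : Set ℕ) := by
  ext S
  constructor
  · rintro ⟨⟨g, hg⟩, rfl⟩
    show g • Dset ks ∈ _
    obtain ⟨k, hk, e⟩ := exists_smul_eq g ks hks
    rw [mem_stabilizer_iff] at hg
    have hr := rel_invariant g 0 (by norm_num) ks hks 0 (by norm_num) k hk hg e
    refine ⟨k, ?_, e.symm⟩
    simp only [Finset.mem_coe, List.mem_toFinset, List.mem_filter, List.mem_range, beq_iff_eq]
    exact ⟨hk, by rw [hr, hrel]⟩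
  · rintro ⟨k, hk, rfl⟩
    simp only [Finset.mem_coe, List.mem_toFinset, List.mem_filter, List.mem_range,
      beq_iff_eq] at hk
    obtain ⟨hk100, hkc⟩ := hk
    obtain ⟨ht, hp⟩ := cert_spec hk100 (by rw [hkc]; exact hc)
    rw [hsel k hkc] at hp
    have hmem : elM (certT.getD k 0) ∈ stabilizer M (Dset 0) := by
      apply mem_stab_of_maps
      intro p hp0
      rw [elM_apply ht]
      exact (hp p.val p.isLt).1 hp0
    refine ⟨⟨elM (certT.getD k 0), hmem⟩, ?_⟩
    show elM (certT.getD k 0) • Dset ks = Dset k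
    apply smul_eq_of_sub hks hk100
    rintro _ ⟨p, hpk, rfl⟩
    rw [mem_Dset] at hpk ⊢
    show inD k ((((elM (certT.getD k 0) : M) : P315) p : Fin 315) : ℕ) = true
    rw [elM_apply ht]
    exact (hp p.val p.isLt).2 hpk

theorem ncard_filter (c n : ℕ)
    (h : ((List.range 100).filter fun k => relF 0 k == c).length = n) :
    (Dset '' (((List.range 100).filter fun k => relF 0 k == c).toFinset : Set ℕ)).ncard = n := by
  rw [Set.ncard_image_of_injOn (Dset_injOn _ (by
    intro k hk
    simp only [List.mem_toFinset, List.mem_filter, List.mem_range] at hk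
    exact hk.1)), Set.ncard_coe_finset,
    List.toFinset_card_of_nodup ((List.nodup_range).filter _), h]

/-- (b) an orbit of the stabiliser with 36 members -/
theorem exists_orbit_36 : ∃ g₁ : M,
    (orbit ↥(stabilizer M (Dset 0)) (g₁ • Dset 0)).ncard = 36 := by
  obtain ⟨-, h36, -, hone, -, hk1, -⟩ := rel_spec
  obtain ⟨g, hg⟩ := exists_smul_zero kOne hk1
  refine ⟨g, ?_⟩
  rw [hg, stab_orbit_eq (c := 1) (by norm_num) hk1 hone (by
    intro k hk
    rw [hk]
    rfl), ncard_filter 1 36 h36]

/-- (c) an orbit of the stabiliser with 63 members -/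
theorem exists_orbit_63 : ∃ g₂ : M,
    (orbit ↥(stabilizer M (Dset 0)) (g₂ • Dset 0)).ncard = 63 := by
  obtain ⟨-, -, h63, -, htwo, -, hk2⟩ := rel_spec
  obtain ⟨g, hg⟩ := exists_smul_zero kTwo hk2
  refine ⟨g, ?_⟩
  rw [hg, stab_orbit_eq (c := 2) (by norm_num) hk2 htwo (by
    intro k hk
    rw [hk]
    rfl), ncard_filter 2 63 h63]

end Cfsg.Agent.Helper7.J2Sub
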