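import Mathlib

/-!
# Transport of a point stabiliser along an isomorphism

Let `e : J ≃* G` and let `G` act on `X`.  The stabiliser `K` of a point `x₀` in `G` pulls back to a
subgroup `H` of `J` with the same index, isomorphic to `K`, and the `H`-orbits on `J ⧸ H` have the same
sizes as the `K`-orbits on the `G`-orbit of `x₀`.
-/

set_option autoImplicit false

namespace Cfsg.Agent.Helper7.J2Sub

open MulAction

variable {G X : Type*} [Group G] [MulAction G X]

/-- the orbits of a point stabiliser on the cosets and on the orbit have the same sizes -/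
theorem ncard_orbit_quotient (x₀ : X) (g : G) :
    (orbit ↥(stabilizer G x₀) ((g : G) : G ⧸ stabilizer G x₀)).ncard =
      (orbit ↥(stabilizer G x₀) (g • x₀)).ncard := by
  have hinj := injective_ofQuotientStabilizer G x₀
  have himg : orbit ↥(stabilizer G x₀) (g • x₀) =
      ofQuotientStabilizer G x₀ '' orbit ↥(stabilizer G x₀) ((g : G) : G ⧸ stabilizer G x₀) := by
    ext y
    constructor
    · rintro ⟨k, rfl⟩
      refine ⟨k • ((g : G) : G ⧸ stabilizer G x₀), ⟨k, rfl⟩, ?_⟩
      show ofQuotientStabilizer G x₀ ((k : G) • ((g : G) : G ⧸ stabilizer G x₀)) = (k : G) • g • x₀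
      rw [ofQuotientStabilizer_smul, ofQuotientStabilizer_mk]
    · rintro ⟨_, ⟨k, rfl⟩, rfl⟩
      refine ⟨k, ?_⟩
      show (k : G) • g • x₀ = ofQuotientStabilizer G x₀ ((k : G) • ((g : G) : G ⧸ stabilizer G x₀))
      rw [ofQuotientStabilizer_smul, ofQuotientStabilizer_mk]
  rw [himg, Set.ncard_image_of_injective _ hinj]

/-- the statement about a group `J` isomorphic to `G`, from data in `G` -/
theorem exists_subgroup_of_action {J : Type*} [Group J] (e : J ≃* G) (x₀ : X) (n a b : ℕ)
    (P : Type*) [Group P]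
    (horb : (orbit G x₀).ncard = n) (hiso : Nonempty (↥(stabilizer G x₀) ≃* P))
    (g₁ g₂ : G) (h₁ : (orbit ↥(stabilizer G x₀) (g₁ • x₀)).ncard = a)
    (h₂ : (orbit ↥(stabilizer G x₀) (g₂ • x₀)).ncard = b) :
    ∃ H : Subgroup J, H.index = n ∧ Nonempty (↥H ≃* P) ∧
      ∃ c₁ c₂ : J ⧸ H, (orbit ↥H c₁).ncard = a ∧ (orbit ↥H c₂).ncard = b := by
  let _ : MulAction J X := MulAction.compHom X e.toMonoidHom
  have hsmul : ∀ (j : J) (x : X), j • x = e j • x := fun _ _ => rfl
  have horbJ : ∀ x : X, orbit J x = orbit G x := by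
    intro x
    ext y
    constructor
    · rintro ⟨j, rfl⟩
      exact ⟨e j, rfl⟩
    · rintro ⟨g, rfl⟩
      exact ⟨e.symm g, by show e.symm g • x = g • x; rw [hsmul, e.apply_symm_apply]⟩
  have hstab : stabilizer J x₀ = (stabilizer G x₀).comap e.toMonoidHom := by
    ext j
    rfl
  -- orbits of the two stabilisers agree
  have horbS : ∀ x : X, orbit ↥(stabilizer J x₀) x = orbit ↥(stabilizer G x₀) x := by
    intro x
    ext y
    constructor
    · rintro ⟨⟨j, hj⟩, rfl⟩
      exact ⟨⟨e j, hj⟩, rfl⟩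
    · rintro ⟨⟨g, hg⟩, rfl⟩
      refine ⟨⟨e.symm g, ?_⟩, ?_⟩
      · show e.symm g • x₀ = x₀
        rw [hsmul, e.apply_symm_apply]
        exact hg
      · show e.symm g • x = g • x
        rw [hsmul, e.apply_symm_apply]
  refine ⟨stabilizer J x₀, ?_, ?_, ((e.symm g₁ : J) : J ⧸ stabilizer J x₀),
    ((e.symm g₂ : J) : J ⧸ stabilizer J x₀), ?_, ?_⟩
  · rw [index_stabilizer, horbJ, horb]
  · obtain ⟨f⟩ := hiso
    have e' : ↥(stabilizer J x₀) ≃* ↥(stabilizer G x₀) :=
      { toFun := fun j => ⟨e (j : J), j.2⟩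
        invFun := fun g => ⟨e.symm g, by
          show e.symm (g : G) • x₀ = x₀
          rw [hsmul, e.apply_symm_apply]
          exact g.2⟩
        left_inv := fun j => Subtype.ext (e.symm_apply_apply (j : J))
        right_inv := fun g => Subtype.ext (e.apply_symm_apply (g : G))
        map_mul' := fun j j' => Subtype.ext (map_mul e (j : J) (j' : J)) }
    exact ⟨e'.trans f⟩
  · rw [ncard_orbit_quotient, horbS]
    have : (e.symm g₁ : J) • x₀ = g₁ • x₀ := by rw [hsmul, e.apply_symm_apply]
    rw [this, h₁]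
  · rw [ncard_orbit_quotient, horbS]
    have : (e.symm g₂ : J) • x₀ = g₂ • x₀ := by rw [hsmul, e.apply_symm_apply]
    rw [this, h₂]

end Cfsg.Agent.Helper7.J2Sub
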